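import Groth.Agent.Lib.RelAmple18.Generation
import Groth.Agent.Lib.GrMod11.TwistEpi
import Groth.Agent.Lib.Cyc26.SplitBase
import Groth.Agent.Lib.K0Cat.Basic
import Groth.Agent.Lib.RHom.Coprod
import Groth.Agent.Lib.TensorMod.Invertible
import Groth.Agent.Lib.FormalH7.LocFree
import Groth.Agent.Lib.VB17.Sub
import Groth.Prelude.Def_KRR

/-!
# Ample invertible modules give ample line elements
-/

set_option autoImplicit false
set_option linter.style.haveILetI false
set_option linter.unusedSectionVars false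
universe v u

open CategoryTheory CategoryTheory.Limits AlgebraicGeometry

namespace Groth.Agent.AmpleElt5

/-- A surjection of locally free modules does not increase the rank. -/
theorem rank_le_of_surjective {X : Scheme.{u}} {m s : ℕ} {A B : X.Modules} (hA : FlatMod.IsFinLocFreeOfRank m A)
    (hB : FlatMod.IsFinLocFreeOfRank s B) (q : A ⟶ B) [Epi q] (x : X) : s ≤ m := by
  obtain ⟨a⟩ := CurveCoh17.nonempty_stalk_equiv hA x
  obtain ⟨b⟩ := CurveCoh17.nonempty_stalk_equiv hB x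
  let l := (b.toLinearMap.comp (CurveCoh17.stalkLin q x)).comp a.symm.toLinearMap
  exact le_of_fin_surjective (X.presheaf.stalk x) l
    (b.surjective.comp (((M1.epi_iff_stalk q).1 ‹_› x).comp a.symm.surjective))

/-- A locally free module of rank zero is zero. -/
theorem isZero_of_rank_zero {X : Scheme.{u}} {E : X.Modules} (hE : FlatMod.IsFinLocFreeOfRank 0 E) : IsZero E := by
  rw [IsZero.iff_id_eq_zero]
  refine Scheme.Modules.hom_ext _ _ fun U => ?_
  ext a
  refine M1.section_ext _ _ fun x hx => ?_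
  obtain ⟨e⟩ := CurveCoh17.nonempty_stalk_equiv hE x
  exact e.injective (Subsingleton.elim _ _)

variable {X : Scheme.{u}} {K : Type v} [CommRing K] [LambdaRing.LambdaOps K]
  {P : LambdaRing.PosStructure K} {φ : SGA6.Kvb X →+ K}

theorem cl_ses (φ : SGA6.Kvb X →+ K) (S : ShortComplex X.Modules) (hS : S.ShortExact)
    (h₁ : FlatMod.IsFinLocFree S.X₁) (h₂ : FlatMod.IsFinLocFree S.X₂) (h₃ : FlatMod.IsFinLocFree S.X₃) :
    φ (KRR.cl X S.X₂) = φ (KRR.cl X S.X₁) + φ (KRR.cl X S.X₃) := by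
  rw [← map_add]
  exact congrArg φ (K0Cat.clSub_ses S hS h₁ h₂ h₃)

theorem cl_iso (φ : SGA6.Kvb X →+ K) {A B : X.Modules} (e : A ≅ B) (hA : FlatMod.IsFinLocFree A) :
    φ (KRR.cl X A) = φ (KRR.cl X B) := by
  have hB : FlatMod.IsFinLocFree B := M2.isFinLocFree_of_iso e hA
  obtain ⟨Z, hZ⟩ := HasZeroObject.zero (C := X.Modules)
  have hZf := KFlat.Sch.isFinLocFree_of_isZero hZ
  let S : ShortComplex X.Modules := ShortComplex.mk (hZ.to_ A) e.hom (hZ.eq_of_src _ _)
  have hS : S.ShortExact := by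
    haveI : Mono S.f := ⟨fun g h _ => hZ.eq_of_tgt g h⟩
    haveI : Epi S.g := inferInstanceAs (Epi e.hom)
    exact ShortComplex.ShortExact.mk' (S.exact_of_f_is_kernel
      (KernelFork.IsLimit.ofι' _ _ fun g hg => ⟨0, by
        rw [zero_comp, ← cancel_mono e.hom, zero_comp]; exact hg.symm⟩)) inferInstance inferInstance
  rw [cl_ses φ S hS hZf hA hB, show φ (KRR.cl X S.X₁) = 0 by
    rw [show KRR.cl X S.X₁ = 0 from K0Cat.clSub_of_isZero hZ hZf, map_zero], zero_add]

theorem cl_freeMod (hK : KRR.IsModel X K P φ) (m : ℕ) : φ (KRR.cl X (FlatMod.freeMod X m)) = (m : K) := by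
  have hf : ∀ n, FlatMod.IsFinLocFree (FlatMod.freeMod X n) := fun n =>
    M2.isFinLocFree_of_ofRank (FormalH7.isFinLocFreeOfRank_freeMod X n)
  have hO : FlatMod.IsFinLocFree (Coh.structureModule X) :=
    M2.isFinLocFree_of_isInvertible fun x => ⟨⊤, trivial, ⟨Scheme.Modules.restrictUnitIso _⟩⟩
  induction m with
  | zero =>
    rw [show KRR.cl X (FlatMod.freeMod X 0) = 0 from K0Cat.clSub_of_isZero (DPerf.isZero_freeMod_zero X) (hf 0),
      map_zero, Nat.cast_zero]
  | succ m ih =>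
    have e := RHom.freeSuccIso (X := X) m
    have hb : FlatMod.IsFinLocFree (FlatMod.freeMod X m ⊞ Coh.structureModule X) :=
      M2.isFinLocFree_of_iso e.symm (hf (m + 1))
    rw [← cl_iso φ e hb, cl_ses φ _
      (ShortComplex.Splitting.ofHasBinaryBiproduct (FlatMod.freeMod X m) (Coh.structureModule X)).shortExact
      (hf m) hb hO, ih, hK.map_one, Nat.cast_succ]

theorem cl_tensorPow (hK : KRR.IsModel X K P φ) {L : X.Modules} (hL : PicF.IsInvertible L) :
    ∀ n : ℕ, φ (KRR.cl X (CohB1.tensorPow L n)) = φ (KRR.cl X L) ^ n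
  | 0 => by rw [pow_zero]; exact hK.map_one
  | n + 1 => by
    rw [pow_succ, ← cl_tensorPow hK hL n, hK.map_mul _ _
      (M2.isFinLocFree_of_isInvertible (Amp.isInvertible_tensorPow hL n)) (M2.isFinLocFree_of_isInvertible hL)]
    rfl

/-- An ample invertible module gives an ample line element. -/
theorem isAmpleElt (hK : KRR.IsModel X K P φ) [Nonempty ↥X] {L : X.Modules} (hL : CohB1.IsAmple L) :
    KRR.IsAmpleElt P (φ (KRR.cl X L)) := by
  have hL1 := (M2.isInvertible_iff_isFinLocFreeOfRank_one L).1 hL.1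
  refine ⟨⟨(hK.mem_pos_iff _).2 ⟨1, L, le_rfl, hL1, rfl⟩, by rw [hK.aug_cl 1 L hL1]; rfl⟩, fun x => ?_⟩
  obtain ⟨e, f, he, hf, rfl⟩ := P.exists_sub x
  obtain ⟨r, E, hr, hE, rfl⟩ := (hK.mem_pos_iff e).1 he
  obtain ⟨s, F, hs, hF, rfl⟩ := (hK.mem_pos_iff f).1 hf
  haveI := hL.2.1
  have hFl := M2.isFinLocFree_of_ofRank hF
  obtain ⟨n₀, hn₀⟩ := RA.exists_globallyGenerated hL F
    (M1.isFP_isQCoh (M1.isFP_of_isFinLocFree hFl)) (M1.isFP_isFT (M1.isFP_of_isFinLocFree hFl))
  refine ⟨n₀, fun n hn => ?_⟩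
  have hLn := (M2.isInvertible_iff_isFinLocFreeOfRank_one _).1 (Amp.isInvertible_tensorPow hL.1 n)
  let Fn := CohB1.tensorMod F (CohB1.tensorPow L n)
  let En := CohB1.tensorMod E (CohB1.tensorPow L n)
  have hFn : FlatMod.IsFinLocFreeOfRank (s * 1) Fn := M2.isFinLocFreeOfRank_tensor hF hLn
  have hEn : FlatMod.IsFinLocFreeOfRank (r * 1) En := M2.isFinLocFreeOfRank_tensor hE hLn
  rw [mul_one] at hFn hEn
  have hFnl := M2.isFinLocFree_of_ofRank hFn
  have hfp := M1.isFP_of_isFinLocFree hFnl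
  obtain ⟨k, p, hp⟩ := GrMod11.exists_epi_freeMod (M1.isFP_isQCoh hfp) (M1.isFP_isFT hfp) (hn₀ n hn)
  let q : FlatMod.freeMod X k ⊞ Coh.structureModule X ⟶ Fn := biprod.desc p 0
  haveI : Epi q := by
    haveI : Epi (biprod.inl ≫ q) := by rw [biprod.inl_desc]; exact hp
    exact epi_of_epi biprod.inl q
  let q' : FlatMod.freeMod X (k + 1) ⟶ Fn := (RHom.freeSuccIso k).inv ≫ q
  let S : ShortComplex X.Modules := ShortComplex.mk (kernel.ι q') q' (kernel.condition q')
  have hS : S.ShortExact := ShortComplex.ShortExact.mk'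
    (S.exact_of_f_is_kernel (kernelIsKernel q')) inferInstance inferInstance
  have hKl : FlatMod.IsFinLocFree (kernel q') := DPerf.isFinLocFree_kernel _ _ _ hS
    (M2.isFinLocFree_of_ofRank (FormalH7.isFinLocFreeOfRank_freeMod X (k + 1))) hFnl
  have hkey : φ (KRR.cl X Fn) = ((k + 1 : ℕ) : K) - φ (KRR.cl X (kernel q')) := by
    rw [← cl_freeMod hK (k + 1), cl_ses φ S hS hKl
      (M2.isFinLocFree_of_ofRank (FormalH7.isFinLocFreeOfRank_freeMod X (k + 1))) hFnl]
    exact (add_sub_cancel_left _ _).symm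
  refine ⟨φ (KRR.cl X En) + φ (KRR.cl X (kernel q')), k + 1, ?_, ?_⟩
  · have hsum : φ (KRR.cl X (En ⊞ kernel q')) = φ (KRR.cl X En) + φ (KRR.cl X (kernel q')) :=
      cl_ses φ _ (ShortComplex.Splitting.ofHasBinaryBiproduct En (kernel q')).shortExact
        (M2.isFinLocFree_of_ofRank hEn) (KFlat.Sch.isFinLocFree_biprod (M2.isFinLocFree_of_ofRank hEn) hKl) hKl
    rcases Nat.lt_or_ge (k + 1) s with h | h
    · exfalso
      exact absurd (rank_le_of_surjective (FormalH7.isFinLocFreeOfRank_freeMod X (k + 1)) hFn q' (Classical.arbitrary ↥X)) (by omega)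
    · obtain ⟨d, hd⟩ : ∃ d, k + 1 = d + s := ⟨k + 1 - s, by omega⟩
      have hKr : FlatMod.IsFinLocFreeOfRank d (kernel q') := Cyc26Split.isFinLocFreeOfRank_kernel _ _ _ hS
        (hd ▸ FormalH7.isFinLocFreeOfRank_freeMod X (k + 1)) hFn
      rcases Nat.eq_zero_or_pos d with rfl | hd0
      · rw [show KRR.cl X (kernel q') = 0 from K0Cat.clSub_of_isZero (isZero_of_rank_zero hKr) hKl, map_zero,
          add_zero]
        exact (hK.mem_pos_iff _).2 ⟨r, En, hr, hEn, rfl⟩
      · exact P.add_mem _ _ ((hK.mem_pos_iff _).2 ⟨r, En, hr, hEn, rfl⟩)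
          ((hK.mem_pos_iff _).2 ⟨d, _, hd0, hKr, rfl⟩)
  · have hLl := M2.isFinLocFree_of_ofRank hLn
    rw [mul_sub, ← cl_tensorPow hK hL.1 n, mul_comm _ (φ (KRR.cl X E)), mul_comm _ (φ (KRR.cl X F)),
      hK.map_mul _ _ (M2.isFinLocFree_of_ofRank hE) hLl, hK.map_mul _ _ hFl hLl]
    show φ (KRR.cl X En) - φ (KRR.cl X Fn) = _
    rw [hkey]
    ring

end Groth.Agent.AmpleElt5
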